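/-
Sectional 2-rank: tools for the four-generator theorems.
-/
import Cfsg.Agent.SR.Basic
import Cfsg.Agent.MW.A
set_option autoImplicit false
set_option linter.unusedSectionVars false

namespace CF.SR
open Subgroup Cfsg CF.BG CF.Sig CF.GW CF.Ab2 CF.MW
open CF.Invol (mem_sup_zpowers_iff card_sup_zpowers relIndex_sup_zpowers)
open scoped commutatorElement

variable {G : Type*} [Group G] [Finite G]
variable {A B C D E H K L M N P S T U V W X Y : Subgroup G} {m n : ℕ} {a b c d e g s t w x y z : G}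

/-- every elementary abelian section of `S / N` has order at most `m` -/
def QR (m : ℕ) (N S : Subgroup G) : Prop :=
  ∀ H K, H ≤ S → Sq H K → K.relIndex H ≤ m * K.relIndex (H ⊓ N)

theorem rel_r (K : Subgroup G) (l : H ≤ L) : K.relIndex H ≤ K.relIndex L :=
  relIndex_le_of_le_right l (relIndex_ne_zero' _ _)
theorem rel_l (H : Subgroup G) (l : H ⊓ K ≤ L) : L.relIndex H ≤ K.relIndex H := by
  rw [← inf_relIndex_left H K]
  exact relIndex_le_of_le_left l (relIndex_ne_zero' _ _)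

theorem QR.mono (h : QR m N S) (l : S ⊓ N ≤ M) : QR m M S := fun H K a b =>
  (h H K a b).trans (Nat.mul_le_mul_left _ (rel_r _ fun _ hx => ⟨hx.1, l ⟨a hx.1, hx.2⟩⟩))

theorem QR.srk (h : QR m N S) (k : SRk n (S ⊓ N)) : SRk (m * n) S := fun H K a b =>
  (h H K a b).trans (Nat.mul_le_mul_left _ (k _ _ (inf_le_inf_right _ a) (b.mono inf_le_left)))

theorem qr_idx (h : N.relIndex S ≤ m) : QR m N S := fun H K a _ =>
  (split K H N).trans (by rw [mul_comm]; exact Nat.mul_le_mul_right _ ((rel_r _ a).trans h))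

theorem qr_eight (h : N.relIndex S ≤ 8) (k : ∀ H ≤ S, Sq H N → N.relIndex H ≤ 4) : QR 4 N S := fun H K a b => by
  by_cases c : Sq H N
  · exact qr_idx (k H a c) H K le_rfl b
  obtain ⟨x, hx, c⟩ : ∃ x ∈ H, x * x ∉ N := by simpa [Sq] using c
  have := (split2 (b x hx) (mul_mem hx hx) c).trans (Nat.mul_le_mul_left _ ((rel_r _ a).trans h))
  omega

theorem qr_qt (n : S ≤ 𝐍 N) (h : SRk m (qt N S)) : QR m N S := fun H K a b => by
  have h1 := h (qt N H) (qt N (K ⊓ H)) (qt_mono _ a) fun z hz => by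
    obtain ⟨x, hx, nx, rfl⟩ := mem_qt.1 hz
    rw [← qe_mul nx nx]
    exact qe_mem_qt ⟨b x hx, mul_mem hx hx⟩ (mul_mem nx nx)
  have h2 := card_mul_relIndex (qt_mono N (inf_le_right : K ⊓ H ≤ H))
  rw [card_qt (a.trans n), card_qt (inf_le_right.trans (a.trans n))] at h2
  have h3 := rel_eq K H N
  rw [← h2, mul_comm (N.relIndex _), ← mul_assoc] at h3
  rw [← Nat.eq_of_mul_eq_mul_right (relIndex_pos _ _) h3, mul_comm]
  exact Nat.mul_le_mul_right _ h1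

theorem rel_fin {α : Type*} [Finite α] (f : H → α) (h : ∀ x y, f x = f y → (x : G)⁻¹ * y ∈ N) :
    N.relIndex H ≤ Nat.card α :=
  Nat.card_le_card_of_injective (fun q : H ⧸ N.subgroupOf H => f q.out) fun p q e => by
    rw [← p.out_eq, ← q.out_eq]
    exact QuotientGroup.eq.2 (h _ _ e)

theorem rel_cent (k : ∀ s ∈ H, ⁅s, a⁆ ∈ X) : (𝐂₁ a).relIndex H ≤ ♯X :=
  rel_fin (fun s : H => (⟨⁅(s : G), a⁆, k s s.2⟩ : X)) fun x y e => mem_cent1.2 (by
    have e : (x : G) * a * (x : G)⁻¹ * a⁻¹ = y * a * (y : G)⁻¹ * a⁻¹ := congrArg Subtype.val e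
    calc _ = (x : G)⁻¹ * (y * a * (y : G)⁻¹ * a⁻¹) * (a * y) := by group
      _ = _ := by rw [← e]; group)

/-- if the real elements of `H` lie in `X`, then `H / ℧(H)` has order at most `|X|` -/
theorem rel_nr (s : Sq H K) (h : ∀ x ∈ H, ∀ c ∈ H, x * c * x⁻¹ = c⁻¹ → c ∈ X) : K.relIndex H ≤ ♯X := by
  have r : ∀ y : H, ∃ x ∈ H, x * x = y * y := fun y => ⟨y, y.2, rfl⟩
  classical
  let ρ : G → G := fun q => if h : ∃ x ∈ H, x * x = q then h.choose else 1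
  have hρ : ∀ y : H, ρ (y * y) ∈ H ∧ ρ (y * y) * ρ (y * y) = y * y := fun y => by
    simp only [ρ, dif_pos (r y)]
    exact (r y).choose_spec
  have := Nat.card_le_card_of_injective (fun y : H => ((⟨y * y, s _ y.2, mul_mem y.2 y.2⟩ : ↥(K ⊓ H)),
    (⟨ρ (y * y) * (y : G)⁻¹, h _ (hρ y).1 _ (mul_mem (hρ y).1 (inv_mem y.2)) (by
      rw [← mul_assoc, (hρ y).2]; group)⟩ : X))) fun x y e => by
    have e1 : (x : G) * x = y * y := congrArg (fun p => (p.1 : G)) e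
    have e2 : ρ (x * x) * (x : G)⁻¹ = ρ (y * y) * (y : G)⁻¹ := congrArg (fun p => (p.2 : G)) e
    rw [e1] at e2
    exact Subtype.ext (inv_injective (mul_left_cancel e2))
  rw [Nat.card_prod, ← card_inf_mul_relIndex K H] at this
  exact Nat.le_of_mul_le_mul_left this (card_pos' _)

theorem exists_step {p : G → Prop} (e : E2 c) (h1 : p 1) (h : ¬ p c) : ∃ k, ¬ p (c ^ 2 ^ k) ∧ p (c ^ 2 ^ (k + 1)) := by
  obtain ⟨i, hi⟩ := (piGrp_zpowers.2 e).isPGroup ⟨c, mem_zpowers c⟩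
  have hi : c ^ 2 ^ i = 1 := congrArg Subtype.val hi
  by_contra! f
  have : ∀ k, ¬ p (c ^ 2 ^ k) := fun k => by
    induction k with
    | zero => simpa using h
    | succ k ih => exact f k ih
  exact this i (hi ▸ h1)

theorem pow2_succ (c : G) (k : ℕ) : c ^ 2 ^ (k + 1) = c ^ 2 ^ k * c ^ 2 ^ k := by
  rw [pow_succ, pow_mul, pow_two]

theorem sq_one (e : E2 c) (h : ∀ d ∈ zpowers c, d * d * (d * d) = 1 → d * d = 1) : c * c = 1 := by
  by_contra f
  obtain ⟨k, h1, h2⟩ := exists_step (p := fun x => x * x = 1) e (mul_one 1) f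
  exact h1 (h _ (pow_mem (mem_zpowers c) _) (by rwa [pow2_succ] at h2))

theorem inv_zp (h : x * c * x⁻¹ = c⁻¹) (hd : d ∈ zpowers c) : x * d * x⁻¹ = d⁻¹ := inv_zpowers h d hd

theorem fix_zp (h : x * c * x⁻¹ = c) (hd : d ∈ zpowers c) : x * d * x⁻¹ = d := by
  obtain ⟨k, rfl⟩ := hd
  rw [← conj_zpow, h]

/-- a normal four-group: a central involution and a second generator -/
theorem four_gen (k : P2 S) (n : B ⊴ S) (e : ∀ u ∈ B, u * u = 1) (c : ♯B = 4) :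
    ∃ z b, FP z b ∧ V4 z b = B ∧ S ≤ 𝐂₁ z ∧ ∀ s ∈ S, ⁅s, b⁆ ∈ zpowers z := by
  obtain ⟨z, hz, z1, hy⟩ := exists_lift k n (NormalIn.bot S) bot_le fun h => by
    have := card_le h
    simp [c] at this
  have z1 : z ≠ 1 := by simpa using z1
  have zc : S ≤ 𝐂₁ z := fun s hs =>
    mem_cent1.2 (comm_of_eq_one (((mem_YY (NormalIn.bot S)).1 hy).2.2 s hs)).symm
  have iz := Iv.mk' z1 (e z hz)
  obtain ⟨b, hb, m⟩ := exists_not_mem (A := zpowers z) (B := B) (by rw [iz.card, c]; decide)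
  have F := fp_of e hz hb z1 (fun h => m (h ▸ one_mem _)) fun h => m (h ▸ mem_zpowers z)
  have V := v4_eq c F hz hb
  refine ⟨z, b, F, V, zc, fun s hs => ?_⟩
  have h1 : s * b * s⁻¹ ∉ zpowers z := fun h => m (by
    simpa [mul_assoc] using conj_mem_of_norm (inv_mem (cent1_le_norm_zp z (zc hs))) h)
  rcases F.mem.1 (V.ge (n.conj_mem hs hb)) with h | h | h | h
  · exact absurd (h ▸ one_mem _) h1
  · exact absurd (h ▸ mem_zpowers z) h1
  · rw [commutatorElement_def, h, mul_inv_cancel]; exact one_mem _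
  · rw [commutatorElement_def, h, mul_inv_cancel_right]; exact mem_zpowers z

/-- the automorphisms stabilising `B < B⟨a⟩` form a subgroup of `D₈` -/
theorem d8 (k : P2 S) (n : B ⊴ S) (e : ∀ u ∈ B, u * u = 1) (c : ♯B = 4) (h : ∀ s ∈ S, ⁅s, a⁆ ∈ B) :
    (𝐂 B ⊓ 𝐂₁ a).relIndex S ≤ 8 ∧ QR 4 (𝐂 B ⊓ 𝐂₁ a) S := by
  obtain ⟨z, b, F, rfl, zc, hb⟩ := four_gen k n e c
  have k1 : ∀ H ≤ S, (𝐂 (V4 z b) ⊓ 𝐂₁ a).relIndex H ≤ (𝐂₁ a).relIndex (H ⊓ 𝐂₁ b) * (𝐂₁ b).relIndex H :=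
    fun H l => by
    rw [inf_comm H, relIndex_inf_mul_relIndex]
    exact rel_l _ fun x hx => ⟨by rw [cent_V4]; exact ⟨zc (l hx.1), hx.2.2⟩, hx.2.1⟩
  have k2 : ∀ H ≤ S, (𝐂₁ b).relIndex H ≤ 2 := fun H l => F.l.card ▸ rel_cent fun s hs => hb s (l hs)
  have k3 : ∀ H ≤ S, (𝐂₁ a).relIndex H ≤ 4 := fun H l => c ▸ rel_cent fun s hs => h s (l hs)
  have k4 := (k1 S le_rfl).trans (Nat.mul_le_mul (k3 _ inf_le_left) (k2 S le_rfl))
  refine ⟨k4, qr_eight k4 fun H l q => (k1 H l).trans ?_⟩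
  by_cases f : H ≤ 𝐂₁ b
  · rw [relIndex_eq_one.2 f, mul_one]; exact k3 _ (inf_le_left.trans l)
  obtain ⟨g, hg, f⟩ := SetLike.not_le_iff_exists.1 f
  have k5 : ∀ g ∈ H, g ∉ 𝐂₁ b → ⁅g, a⁆ ∈ zpowers z := fun g hg f => by
    have h1 := comm_mul_l g g a
    rw [comm_eq_one (mem_cent1.1 (q g hg).2)] at h1
    have h2 := h g (l hg)
    have h3 : g ∈ 𝐂₁ ⁅g, a⁆ := mem_cent1.2 (by
      rw [← mul_inv_eq_iff_eq_mul, eq_inv_of_mul_eq_one_left h1.symm, inv_eq_of_mul_eq_one_right (e _ h2)])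
    rcases F.mem.1 h2 with r | r | r | r <;> rw [r] at h3 ⊢
    exacts [one_mem _, mem_zpowers z, absurd h3 f, absurd (F.mul_mul ▸ cent1_mul_of (zc (l hg)) h3) f]
  refine Nat.mul_le_mul ((rel_cent fun s hs => ?_).trans F.l.card.le) (k2 H l)
  have h1 := k5 _ (mul_mem hg hs.1) fun r => f ((mul_mem_cancel_right (show s ∈ 𝐂₁ b from hs.2)).1 r)
  rw [comm_mul_l, mul_mem_cancel_right (k5 g hg f)] at h1
  simpa [mul_assoc] using conj_mem_of_norm (inv_mem (cent1_le_norm_zp z (zc (l hg)))) h1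

end CF.SR
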