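/-
Two-groups without normal elementary abelian subgroups of order eight: the homocyclic case.
-/
import Cfsg.Agent.SR.M1
set_option autoImplicit false
set_option linter.unusedSectionVars false

namespace CF.SR
open Subgroup Cfsg CF.BG CF.Sig CF.GW CF.Ab2 CF.MW
open scoped commutatorElement

variable {G : Type*} [Group G] [Finite G]
variable {K L S W : Subgroup G} {a b c d e g s t u w x y z : G}

abbrev V2 := ZMod 2 × ZMod 2
abbrev M2 := V2 × V2

open scoped _root_.Classical in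
/-- coordinates in a four-group -/
noncomputable def co (a b x : G) : V2 := if x = 1 then 0 else if x = a then (1, 0) else if x = b then (0, 1) else (1, 1)

theorem co_one : co a b 1 = 0 := if_pos rfl
theorem co_a (F : FP a b) : co a b a = (1, 0) := by simp [co, F.l.ne_one]
theorem co_b (F : FP a b) : co a b b = (0, 1) := by simp [co, F.r.ne_one, F.ne.symm]
theorem co_ab (F : FP a b) : co a b (a * b) = (1, 1) := by
  simp [co, F.iv.ne_one, F.l.ne_one, F.r.ne_one]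

theorem co_mul (F : FP a b) (hx : x ∈ V4 a b) (hy : y ∈ V4 a b) : co a b (x * y) = co a b x + co a b y := by
  have h1 : a * b * a = b := by rw [← F.mul.comm, F.mul_mul]
  have h2 : a * b * b = a := by rw [← F.mul'.comm, F.mul_mul']
  rcases F.mem.1 hx with rfl | h | h | h <;> rcases F.mem.1 hy with rfl | k | k | k <;>
    simp only [*, mul_one, one_mul, F.l.sq, F.r.sq, F.iv.sq, F.mul_mul, F.mul_mul', ← F.comm, co_one, co_a F, co_b F,
      co_ab F] <;> decide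

theorem co_inj (F : FP a b) (hx : x ∈ V4 a b) (hy : y ∈ V4 a b) (e : co a b x = co a b y) : x = y := by
  rcases F.mem.1 hx with rfl | h | h | h <;> rcases F.mem.1 hy with rfl | k | k | k <;>
    simp only [*, co_one, co_a F, co_b F, co_ab F] at e ⊢ <;> exact absurd e (by decide)

def act (p : M2) (v : V2) : V2 := v.1 • p.1 + v.2 • p.2
def nu (v : V2) : V2 := (v.1 + v.2, v.2)
def tau (p : M2) : M2 := (nu p.1, nu (p.1 + p.2))
abbrev good (p : M2) : Prop := ∀ v, act p v = v → v = 0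
abbrev reg (p : M2) : Prop := ∀ v, act p v = 0 → v = 0

theorem m2_self : ∀ p : M2, p + p = 0 := by decide

structure F4 (S W : Subgroup G) (a b : G) : Prop where
  k : P2 S
  ne : NE S
  m : M4 S W
  ha : a ∈ W
  hb : b ∈ W
  f : FP (a * a) (b * b)
  z : S ≤ 𝐂₁ (a * a)

abbrev UU (a b : G) : Subgroup G := V4 (a * a) (b * b)
abbrev TT (S : Subgroup G) (a b : G) : Subgroup G := S ⊓ 𝐂 (UU a b)
noncomputable abbrev cs (a b x : G) : V2 := co (a * a) (b * b) x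
noncomputable def ty (a b s : G) : M2 := (cs a b ⁅s, a⁆, cs a b ⁅s, b⁆)

namespace F4
variable (H : F4 S W a b)
include H

theorem l : UU a b ≤ W := V4_le.2 ⟨mul_mem H.ha H.ha, mul_mem H.hb H.hb⟩
theorem om (hw : w ∈ W) (e : w * w = 1) : w ∈ UU a b :=
  H.ne.mem_of_abel H.m.n H.m.a H.l (fun _ => H.f.sq) H.f.card hw e
theorem sq (hw : w ∈ W) : w * w ∈ UU a b := H.om (mul_mem hw hw) (H.m.e w hw)
theorem n : UU a b ⊴ S := ⟨H.l.trans H.m.n.le, le_norm_iff.2 fun s hs u hu =>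
  H.om (H.m.n.conj_mem hs (H.l hu)) (by rw [conj_mul, H.f.sq hu]; group)⟩
theorem e2 (hx : x ∈ S) : E2 x := H.k.elt hx
theorem ct (hx : x ∈ S) (c : x ∈ 𝐂 W) : x ∈ TT S a b := ⟨hx, fun u hu => c u (H.l hu)⟩
theorem wt (hw : w ∈ W) : w ∈ TT S a b := H.ct (H.m.n.le hw) (H.m.a hw)
theorem conjT (hs : s ∈ S) (ht : t ∈ TT S a b) : s * t * s⁻¹ ∈ TT S a b :=
  (normalIn_inf_cent H.n.norm).conj_mem hs ht

theorem cm (ht : t ∈ TT S a b) (hw : w ∈ W) : ⁅t, w⁆ ∈ UU a b := by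
  have h1 : ⁅t, w⁆ ∈ W := mul_mem (H.m.n.conj_mem ht.1 hw) (inv_mem hw)
  refine H.om h1 ?_
  have h3 := conj_of_cent ht.2 (H.sq hw)
  rw [show t * (w * w) * t⁻¹ = t * w * t⁻¹ * (t * w * t⁻¹) by group, conj_eq_comm, mul_assoc, ← mul_assoc w,
    H.m.a.mul_comm hw h1, mul_assoc, ← mul_assoc] at h3
  exact mul_eq_right.1 h3

theorem cm_mul (ht : t ∈ TT S a b) (hx : x ∈ W) (hy : y ∈ W) : ⁅t, x * y⁆ = ⁅t, x⁆ * ⁅t, y⁆ := by
  rw [comm_mul_r, conj_of_cent (H.wt hx).2 (H.cm ht hy)]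

theorem sq_eq (hx : x ∈ W) (hy : y ∈ W) (e : x * x = y * y) : x⁻¹ * y ∈ UU a b :=
  H.om (mul_mem (inv_mem hx) hy) (by
    rw [mul_assoc, ← mul_assoc y, H.m.a.mul_comm hy (inv_mem hx), mul_assoc, ← e]; group)

theorem cm_eq (ht : t ∈ TT S a b) (hx : x ∈ W) (hy : y ∈ W) (e : x * x = y * y) : ⁅t, y⁆ = ⁅t, x⁆ := by
  have h := H.sq_eq hx hy e
  rw [← mul_inv_cancel_left x y, H.cm_mul ht hx (H.l h), comm_eq_one (ht.2 _ h).symm, mul_one]

theorem sqab : a * b * (a * b) = a * a * (b * b) := by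
  rw [mul_assoc, ← mul_assoc b, ← H.m.a.mul_comm H.ha H.hb]; group

theorem co_cm (ht : t ∈ TT S a b) (hw : w ∈ W) : cs a b ⁅t, w⁆ = act (ty a b t) (cs a b (w * w)) := by
  rcases H.f.mem.1 (H.sq hw) with e | e | e | e <;> rw [e]
  · rw [H.cm_eq ht (one_mem _) hw (by rw [e, mul_one]), commutatorElement_one_right, cs, co_one]; simp [act]
  · rw [H.cm_eq ht H.ha hw e.symm, cs, cs, co_a H.f]; simp [act, ty]
  · rw [H.cm_eq ht H.hb hw e.symm, cs, cs, co_b H.f]; simp [act, ty]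
  · rw [H.cm_eq ht (mul_mem H.ha H.hb) hw (H.sqab.trans e.symm), H.cm_mul ht H.ha H.hb, cs, cs, co_ab H.f,
      co_mul H.f (H.cm ht H.ha) (H.cm ht H.hb)]
    simp [act, ty]

theorem root (v : V2) : ∃ w ∈ W, cs a b (w * w) = v := by
  have : ∀ v : V2, v = 0 ∨ v = (1, 0) ∨ v = (0, 1) ∨ v = (1, 1) := by decide
  rcases this v with rfl | rfl | rfl | rfl
  exacts [⟨1, one_mem _, by rw [mul_one]; exact co_one⟩, ⟨a, H.ha, co_a H.f⟩, ⟨b, H.hb, co_b H.f⟩,
    ⟨_, mul_mem H.ha H.hb, by rw [H.sqab]; exact co_ab H.f⟩]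

theorem ty_mul (hs : s ∈ TT S a b) (ht : t ∈ TT S a b) : ty a b (s * t) = ty a b s + ty a b t := by
  have : ∀ w ∈ W, cs a b ⁅s * t, w⁆ = cs a b ⁅s, w⁆ + cs a b ⁅t, w⁆ := fun w hw => by
    rw [comm_mul_l, conj_of_cent hs.2 (H.cm ht hw), cs, co_mul H.f (H.cm ht hw) (H.cm hs hw), add_comm]
  simp only [ty, this a H.ha, this b H.hb, Prod.mk_add_mk]

theorem ty_zero (ht : t ∈ TT S a b) : ty a b t = 0 ↔ t ∈ 𝐂 W :=
  ⟨fun e w hw => (comm_of_eq_one (co_inj H.f (H.cm ht hw) (one_mem _) (by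
    rw [co_one, ← cs, H.co_cm ht hw, e]; simp [act]))).symm, fun c => by
    rw [ty, comm_eq_one (c a H.ha).symm, comm_eq_one (c b H.hb).symm, cs, co_one]; rfl⟩

theorem ty_one : ty a b 1 = 0 := (H.ty_zero (one_mem _)).2 (one_mem _)
theorem ty_w (hw : w ∈ W) : ty a b w = 0 := (H.ty_zero (H.wt hw)).2 (H.m.a hw)

theorem ty_inv (ht : t ∈ TT S a b) : ty a b t⁻¹ = ty a b t := by
  have := H.ty_mul (inv_mem ht) ht
  rw [inv_mul_cancel, H.ty_one] at this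
  exact (by decide : ∀ p q : M2, 0 = p + q → p = q) _ _ this

theorem ty_conj (hs : s ∈ TT S a b) (ht : t ∈ TT S a b) : ty a b (s * t * s⁻¹) = ty a b t := by
  rw [H.ty_mul (mul_mem hs ht) (inv_mem hs), H.ty_mul hs ht, H.ty_inv hs]
  exact (by decide : ∀ p q : M2, p + q + p = q) _ _

theorem co_conj (hg : g ∈ S) (m : g ∉ TT S a b) (hu : u ∈ UU a b) : cs a b (g * u * g⁻¹) = nu (cs a b u) := by
  have h1 : g * (a * a) * g⁻¹ = a * a := conj_eq_of_comm (mem_cent1.1 (H.z hg))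
  have h2 : g * (b * b) * g⁻¹ = a * a * (b * b) := by
    rcases H.f.mem.1 (H.n.conj_mem hg (right_mem_V4 _ _)) with e | e | e | e
    · exact absurd e (H.f.r.conj g).ne_one
    · rw [← h1] at e; exact absurd (by simpa using e.symm) H.f.ne
    · exact absurd ⟨hg, by rw [cent_V4]; exact ⟨H.z hg, mem_cent1.2 (mul_inv_eq_iff_eq_mul.1 e)⟩⟩ m
    · exact e
  rcases H.f.mem.1 hu with e | e | e | e <;> rw [e]
  · rw [mul_one, mul_inv_cancel, cs, co_one]; rfl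
  · rw [h1, cs, co_a H.f]; decide
  · rw [h2, cs, cs, co_ab H.f, co_b H.f]; decide
  · rw [← conj_mul, h1, h2, H.f.mul_mul, cs, cs, co_ab H.f, co_b H.f]; decide

theorem ty_tau (hg : g ∈ S) (m : g ∉ TT S a b) (ht : t ∈ TT S a b) : ty a b (g * t * g⁻¹) = tau (ty a b t) := by
  have : ∀ w ∈ W, cs a b ⁅g * t * g⁻¹, w⁆ = nu (act (ty a b t) (nu (cs a b (w * w)))) := fun w hw => by
    have hw' := H.m.n.conj_mem (inv_mem hg) hw
    rw [show ⁅g * t * g⁻¹, w⁆ = g * ⁅t, g⁻¹ * w * g⁻¹⁻¹⁆ * g⁻¹ by simp only [commutatorElement_def]; group,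
      H.co_conj hg m (H.cm ht hw'), H.co_cm ht hw', conj_mul,
      H.co_conj (inv_mem hg) (fun h => m (inv_mem_iff.1 h)) (H.sq hw)]
  rw [ty, this a H.ha, this b H.hb, cs, cs, co_a H.f, co_b H.f]
  exact (by decide : ∀ p : M2, (nu (act p (nu (1, 0))), nu (act p (nu (0, 1)))) = tau p) _

theorem inv_sq (ht : t ∈ TT S a b) (o : good (ty a b t)) (hw : w ∈ W) (e : t * w * t⁻¹ = w⁻¹) : w * w = 1 :=
  co_inj H.f (H.sq hw) (one_mem _) ((o _ (by
    rw [← H.co_cm ht hw, commutatorElement_def, e, ← mul_inv_rev, inv_eq_of_mul_eq_one_right (H.m.e w hw)])).trans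
    co_one.symm)

theorem fix_act (ht : t ∈ TT S a b) (hw : w ∈ W) (e : t * w * t⁻¹ = w) : act (ty a b t) (cs a b (w * w)) = 0 := by
  rw [← H.co_cm ht hw, commutatorElement_def, e, mul_inv_cancel]; exact co_one

theorem fix_sq (ht : t ∈ TT S a b) (o : reg (ty a b t)) (hw : w ∈ W) (e : t * w * t⁻¹ = w) : w * w = 1 :=
  co_inj H.f (H.sq hw) (one_mem _) ((o _ (H.fix_act ht hw e)).trans co_one.symm)

theorem mem_U (hc : c ∈ S) (o : ∀ d ∈ zpowers c, d * d * (d * d) = 1 → d ∈ W)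
    (k : ∀ d ∈ zpowers c, d ∈ W → d * d = 1) : c ∈ UU a b :=
  have := sq_one (H.e2 hc) fun d hd e => k d hd (o d hd e)
  H.om (o c (mem_zpowers c) (by rw [this, mul_one])) this

theorem omC (hc : c ∈ S) (k : c ∈ 𝐂 W) (d : G) (hd : d ∈ zpowers c) (e : d * d * (d * d) = 1) : d ∈ W :=
  H.m.m d (zpowers_le.2 hc hd) (zpowers_le.2 k hd) e

theorem cinv (ht : t ∈ TT S a b) (o : good (ty a b t)) (hc : c ∈ S) (k : c ∈ 𝐂 W) (e : t * c * t⁻¹ = c⁻¹) :
    c ∈ UU a b := H.mem_U hc (H.omC hc k) fun _ hd hw => H.inv_sq ht o hw (inv_zp e hd)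

theorem cfix (ht : t ∈ TT S a b) (o : reg (ty a b t)) (hc : c ∈ S) (k : c ∈ 𝐂 W) (e : t * c * t⁻¹ = c) :
    c ∈ UU a b := H.mem_U hc (H.omC hc k) fun _ hd hw => H.fix_sq ht o hw (fix_zp e hd)

theorem sqC (ht : t ∈ TT S a b) : t * t ∈ 𝐂 W :=
  (H.ty_zero (mul_mem ht ht)).1 (by rw [H.ty_mul ht ht]; exact m2_self _)

/-- the elements of type `0` or `p` -/
def NN (p : M2) : Subgroup G where
  carrier := {x | x ∈ TT S a b ∧ (ty a b x = 0 ∨ ty a b x = p)}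
  one_mem' := ⟨one_mem _, .inl H.ty_one⟩
  mul_mem' := fun {x y} hx hy => ⟨mul_mem hx.1 hy.1, by
    rw [H.ty_mul hx.1 hy.1]
    rcases hx.2 with h | h <;> rcases hy.2 with k | k <;> simp [h, k, m2_self]⟩
  inv_mem' := fun {x} hx => ⟨inv_mem hx.1, by rw [H.ty_inv hx.1]; exact hx.2⟩

theorem idx {α : Type*} [Finite α] {p : M2} (l : L ≤ TT S a b) (Q : M2 → Prop) (hQ : ∀ t ∈ L, Q (ty a b t))
    (f : M2 → α) (hf : ∀ q r, Q (q + r) → f q = f r → q + r = 0 ∨ q + r = p) :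
    (H.NN p).relIndex L ≤ Nat.card α :=
  rel_fin (fun t : L => f (ty a b t)) fun x y e => ⟨l (mul_mem (inv_mem x.2) y.2), by
    have := hQ _ (mul_mem (inv_mem x.2) y.2)
    rw [H.ty_mul (inv_mem (l x.2)) (l y.2), H.ty_inv (l x.2)] at this ⊢
    exact hf _ _ this e⟩

end F4

/-- an invariant type without eigenvalue one -/
structure Gd (S : Subgroup G) (a b : G) (p : M2) : Prop where
  ne : p ≠ 0
  o : good p
  i : ∀ t ∈ TT S a b, ty a b t = p → ∀ s ∈ S, ty a b (s * t * s⁻¹) = p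

namespace F4
variable (H : F4 S W a b) {p : M2} (D : Gd S a b p)
include H D

theorem g1 (ht : t ∈ TT S a b) (e : ty a b t = p) : t * t ∉ UU a b := fun h => by
  obtain ⟨v, hv⟩ := (by decide : ∀ p : M2, good p → ∀ r, ∃ v, act p v + v + r = 0) p D.o (cs a b (t * t))
  obtain ⟨w, hw, rfl⟩ := H.root v
  have h0 := mul_mem ht (H.wt hw)
  have h1 : ty a b (t * w) = p := by rw [H.ty_mul ht (H.wt hw), H.ty_w hw, add_zero, e]
  have h2 : t * w * (t * w) = 1 := by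
    have : t * w * (t * w) = ⁅t, w⁆ * (w * w) * (t * t) := by
      rw [mul_assoc ⁅t, w⁆, mul_assoc w, H.m.a.mul_comm hw (H.l h), commutatorElement_def]; group
    have k := mul_mem (H.cm ht hw) (H.sq hw)
    rw [this]
    refine co_inj H.f (mul_mem k h) (one_mem _) ?_
    rw [co_mul H.f k h, co_mul H.f (H.cm ht hw) (H.sq hw), ← cs, H.co_cm ht hw, e, co_one]
    exact hv
  generalize t * w = r at h0 h1 h2
  have := H.ne.iv_mem H.n (fun _ => H.f.sq) H.f.card ((mem_YY H.n).2 ⟨h0.1, h2 ▸ one_mem _, fun s hs => by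
    have h3 := H.conjT hs h0
    have h4 : ⁅r, s⁆ = r * (s * r * s⁻¹)⁻¹ := by rw [commutatorElement_def]; group
    have h5 := mul_mem h0 (inv_mem h3)
    refine H.cinv h0 (h1 ▸ D.o) (h4 ▸ h5.1) (h4 ▸ (H.ty_zero h5).1 (by
      rw [H.ty_mul h0 (inv_mem h3), H.ty_inv h3, D.i r h0 h1 s hs, h1]
      exact m2_self _)) ?_
    rw [h4, ← mul_assoc, h2, one_mul, mul_inv_rev r, inv_inv,
      inv_eq_of_mul_eq_one_right (show s * r * s⁻¹ * (s * r * s⁻¹) = 1 by rw [conj_mul, h2]; group)]⟩) h2 h0.2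
  exact D.ne (h1 ▸ H.ty_w (H.l this))

theorem g4 (hx : x ∈ H.NN p) (e : x * x * (x * x) = 1) : x ∈ W :=
  hx.2.elim (fun k => H.m.m x hx.1.1 ((H.ty_zero hx.1).1 k) e) fun k =>
    absurd (H.om (H.m.m _ (mul_mem hx.1.1 hx.1.1) (H.sqC hx.1) (by rw [e, mul_one])) e) (H.g1 D hx.1 k)

theorem ninv (hx : x ∈ H.NN p) (hc : c ∈ H.NN p) (e : x * c * x⁻¹ = c⁻¹) : c ∈ UU a b :=
  H.mem_U hc.1.1 (fun _ hd => H.g4 D (zpowers_le.2 hc hd)) fun _ hd hw =>
    H.inv_sq hx.1 (hx.2.elim (fun k => k ▸ by decide) fun k => k ▸ D.o) hw (inv_zp e hd)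

theorem g2 : SRk 4 (H.NN p) := fun _ _ l q =>
  (rel_nr q fun _ hx _ hc => H.ninv D (l hx) (l hc)).trans H.f.card.le

theorem g3 (ht : t ∈ TT S a b) (e : ty a b t = p) : ¬ reg p := fun o =>
  have := H.mem_U ht.1 (fun _ hd => H.g4 D (zpowers_le.2 (show t ∈ H.NN p from ⟨ht, .inr e⟩) hd)) fun _ hd hw =>
    H.fix_sq ht (e ▸ o) hw (fix_zp (mul_inv_cancel_right t t) hd)
  H.g1 D ht e (mul_mem this this)

end F4
end CF.SR
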