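/-
Two-groups with a normal elementary abelian subgroup of order eight: Harada's theorem, first part.
-/
import Cfsg.Agent.SR.M3
import Cfsg.Agent.GW.Cent4
set_option autoImplicit false
set_option linter.unusedSectionVars false

namespace CF.SR
open Subgroup Cfsg CF.BG CF.Sig CF.GW CF.Ab2 CF.MW
open CF.Invol (mem_sup_zpowers_iff card_sup_zpowers relIndex_sup_zpowers)
open scoped commutatorElement

variable {G : Type*} [Group G] [Finite G]
variable {A B E K L S W : Subgroup G} {a b c d e g h s t u w x y z : G}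

theorem mul_mem_idx (h : K.relIndex L ≤ 2) (hx : x ∈ L) (hy : y ∈ L) (mx : x ∉ K) (my : y ∉ K) : x * y ∈ K := by
  have h1 := relIndex_pos K L
  have h2 : K.relIndex L ≠ 1 := fun e => mx (relIndex_eq_one.1 e hx)
  exact (mul_mem_iff_of_index_two (H := K.subgroupOf L) (show K.relIndex L = 2 by omega)
    (a := ⟨x, hx⟩) (b := ⟨y, hy⟩)).2 (iff_of_false mx my)

theorem normal_idx (l : K ≤ L) (h : K.relIndex L ≤ 2) : K ⊴ L := ⟨l, le_norm_iff.2 fun s hs x hx => by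
  by_cases m : s ∈ K
  · exact mul_mem (mul_mem m hx) (inv_mem m)
  · exact mul_mem_idx h (mul_mem hs (l hx)) (inv_mem hs) (by rwa [mul_mem_cancel_right hx]) (by rwa [inv_mem_iff])⟩

theorem two_mul_card (l : K ≤ L) (hx : x ∈ L) (m : x ∉ K) : 2 * ♯K ≤ ♯L := by
  have h1 := relIndex_pos K L
  have h2 : K.relIndex L ≠ 1 := fun e => m (relIndex_eq_one.1 e hx)
  rw [← card_mul_relIndex l, mul_comm]
  exact Nat.mul_le_mul_left _ (by omega)

theorem cent1_coset (a : Abel W) (hw : w ∈ W) : W ⊓ 𝐂₁ (w * h) = W ⊓ 𝐂₁ h := by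
  ext x
  simp only [mem_inf, mem_cent1]
  refine and_congr_right fun hx => ?_
  rw [← mul_assoc, a.mul_comm hx hw, mul_assoc, mul_assoc, mul_right_inj]

/-- the commutators with `x` are fixed by everything normalising the situation, if `x` centralises a hyperplane -/
theorem comm_fix (i : (𝐂₁ x).relIndex W ≤ 2) (hw : w ∈ W) (hv : u ∈ W)
    (e : u ∈ 𝐂₁ x ↔ w ∈ 𝐂₁ x) : ⁅u, x⁆ = ⁅w, x⁆ := by
  by_cases m : w ∈ 𝐂₁ x
  · rw [comm_eq_one (mem_cent1.1 m), comm_eq_one (mem_cent1.1 (e.2 m))]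
  have h := mul_mem_idx i (inv_mem hw) hv (by rwa [inv_mem_iff]) (by rwa [e])
  rw [← mul_inv_cancel_left w u, comm_mul_l, comm_eq_one (mem_cent1.1 h), mul_one, mul_inv_cancel, one_mul]

/-- a `2`-group in which an involution has a centraliser of order four -/
theorem cent_four (k : P2 S) (F : FP a y) (ha : a ∈ S) (hy : y ∈ S) (c : S ≤ 𝐂₁ y) (l : S ⊓ 𝐂₁ a ≤ V4 a y) :
    SRk 4 S ∧ ∀ H ≤ S, y ∉ H → ♯H ≤ 2 := by
  by_cases c4 : ♯S ≤ 4
  · exact ⟨fun H K l _ => (rel_le_card K H).trans ((card_le l).trans c4), fun H l m => by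
      have := two_mul_card l hy m
      omega⟩
  obtain ⟨c', hc, i⟩ : ∃ c ∈ S, (zpowers c).relIndex S = 2 := by
    rcases two_subgroup_cases_of_card_centralizer k.isPGroup ha F.l (by
      rw [le_antisymm l (V4_le.2 ⟨⟨ha, mem_cent1.2 rfl⟩, hy, mem_cent1.2 F.comm.symm⟩), F.card]) with
      ⟨n, a, b, -, h⟩ | ⟨n, a, b, h⟩ | h
    exacts [⟨_, h.a_mem 1, h.relIndex_zpowers_one⟩, ⟨_, h.a_mem 1, h.relIndex_zpowers_one⟩, absurd h.le c4]
  have m : y ∈ zpowers c' := by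
    by_contra m
    have ab : Abel (zpowers c' ⊔ zpowers y) := (abel_zpowers _).sup (abel_zpowers _)
      (zp_le_cent.2 (zpowers_le.2 (mem_cent1.2 (mem_cent1.1 (c hc)).symm)))
    have l' : S ≤ zpowers c' ⊔ zpowers y := fun s hs => by
      by_cases f : s ∈ zpowers c'
      · exact mem_sup_left f
      · exact (mul_mem_cancel_right (mem_sup_right (mem_zpowers y))).1 (mem_sup_left (mul_mem_idx i.le hs hy f m))
    exact c4 (F.card ▸ card_le fun s hs => l ⟨hs, mem_cent1.2 (ab.mul_comm (l' hs) (l' ha))⟩)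
  have u : ∀ v ∈ zpowers c', Iv v → v = y := fun v hv j => eq_of_cyc (cyc_zpowers _) hv m j F.r
  refine ⟨(qr_idx i.le).srk (n := 2) fun H K l q => (rel_sq ((abel_zpowers c').mono (l.trans inf_le_right)) q
    fun v hv e => ?_).trans F.r.card.le, fun H l f => ?_⟩
  · by_cases v1 : v = 1
    · rw [v1]; exact one_mem _
    · rw [u v (l hv).2 (.mk' v1 e)]; exact mem_zpowers y
  · rw [← relIndex_of_inf_bot (K := zpowers c') (by
      by_contra j
      obtain ⟨v, hv, j⟩ := exists_iv_of_two (k.le (inf_le_right.trans l)) j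
      exact f (u v hv.1 j ▸ hv.2))]
    exact (rel_r _ l).trans i.le

structure E8 (S E : Subgroup G) : Prop where
  k : P2 S
  n : E ⊴ S
  e : ∀ x ∈ E, x * x = 1
  c : ♯E = 8

theorem exists_sub (k : P2 S) (n : E ⊴ S) (r : ℕ) (c : 2 ^ r ≤ ♯E) : ∃ B ≤ E, B ⊴ S ∧ ♯B = 2 ^ r := by
  induction r with
  | zero => exact ⟨⊥, bot_le, NormalIn.bot S, by simp⟩
  | succ r ih =>
    obtain ⟨B, l, nB, cB⟩ := ih (le_trans (Nat.pow_le_pow_right two_pos (Nat.le_succ r)) c)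
    obtain ⟨y, hy, m, h⟩ := exists_lift k n nB l fun h => by
      have := card_le h
      have := Nat.two_pow_pos r
      omega
    have l' : B ⊔ zpowers y ≤ YY S B := sup_le (le_YY nB) (zpowers_le.2 h)
    exact ⟨_, sup_le l (zpowers_le.2 hy), normal_of_comm le_sup_left (l'.trans (YY_le nB)) fun x hx =>
      ((mem_YY nB).1 (l' hx)).2.2, by
      rw [card_sup_zpowers (nB.norm (YY_le nB h)) ((mem_YY nB).1 h).2.1 m, cB, pow_succ']⟩

theorem exists_e8 (k : P2 S) (h : ¬ NE S) : ∃ E, E8 S E := by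
  obtain ⟨E, n, e, c⟩ : ∃ E, E ⊴ S ∧ (∀ x ∈ E, x * x = 1) ∧ 4 < ♯E := by simpa [NE] using h
  obtain ⟨B, l, nB, cB⟩ := exists_sub k n 2 c.le
  obtain ⟨x, hx, m⟩ := exists_not_mem (A := B) (B := E) (by omega)
  obtain ⟨B, l, nB, cB⟩ := exists_sub k n 3 (by have := two_mul_card l hx m; omega)
  exact ⟨B, k, nB, fun x hx => e x (l hx), cB⟩

namespace E8
variable (H : E8 S E)
include H

theorem ab : Abel E := CF.ZD.abel_of_sq H.e
theorem l : E ≤ S ⊓ 𝐂 E := le_inf H.n.le H.ab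
theorem nC : S ⊓ 𝐂 E ⊴ S := normalIn_inf_cent H.n.norm
theorem cm (hx : x ∈ E) (hs : s ∈ S) : ⁅x, s⁆ ∈ E := ((mem_YY H.n).1 (le_YY H.n hx)).2.2 s hs

theorem d8 : (𝐂 E).relIndex S ≤ 8 ∧ QR 4 (𝐂 E) S := by
  obtain ⟨B, l, n, c⟩ := exists_sub H.k H.n 2 (by rw [H.c]; decide)
  obtain ⟨a, ha, m⟩ := exists_not_mem (A := B) (B := E) (by rw [H.c, c]; decide)
  have i : B.relIndex E ≤ 2 := by
    have := card_mul_relIndex l
    rw [c, H.c] at this
    omega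
  have l' : S ⊓ (𝐂 B ⊓ 𝐂₁ a) ≤ 𝐂 E := fun s hs x hx => by
    by_cases f : x ∈ B
    · exact hs.2.1 x f
    · have := hs.2.1 _ (mul_mem_idx i hx ha f m)
      rwa [mul_assoc, ← mem_cent1.1 hs.2.2, ← mul_assoc, ← mul_assoc, mul_left_inj] at this
  have := SR.d8 (a := a) H.k n (fun u hu => H.e u (l hu)) c fun s hs =>
    mul_mem_idx i (H.n.conj_mem hs ha) (inv_mem ha) (fun f => m (by
      simpa [mul_assoc] using n.conj_mem (inv_mem hs) f)) (by rwa [inv_mem_iff])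
  exact ⟨(rel_l _ l').trans this.1, this.2.mono l'⟩

theorem fin (a : Abel (S ⊓ 𝐂 E)) (c : ♯(S ⊓ 𝐂 E : Subgroup G) ≤ 16)
    (h : ∀ L ≤ S, 2 < (𝐂 E).relIndex L → ∃ x ∈ L, ♯(S ⊓ 𝐂 E ⊓ 𝐂₁ x : Subgroup G) ≤ 4) : SRk 16 S := fun L K l q => by
  have k : ∀ x ∈ L, K.relIndex (L ⊓ 𝐂 E) ≤ ♯(S ⊓ 𝐂 E ⊓ 𝐂₁ x : Subgroup G) := fun x hx =>
    (rel_comm (a.mono (inf_le_inf_right _ l)) ((normalIn_inf_cent (l.trans H.n.norm)).norm hx)
      fun v hv => q.comm hv.1 hx).trans (card_le (inf_le_inf_right _ (inf_le_inf_right _ l)))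
  by_cases f : L ≤ 𝐂 E
  · exact (rel_le_card K L).trans ((card_le (le_inf l f)).trans c)
  by_cases i : 2 < (𝐂 E).relIndex L
  · obtain ⟨x, hx, e⟩ := h L l i
    exact (H.d8.2 L K l q).trans (by have := k x hx; omega)
  obtain ⟨x, hx, f⟩ := SetLike.not_le_iff_exists.1 f
  obtain ⟨u, hu, f⟩ : ∃ u ∈ E, u * x ≠ x * u := by
    by_contra! j
    exact f j
  have := two_mul_card (inf_le_left : S ⊓ 𝐂 E ⊓ 𝐂₁ x ≤ _) (H.l hu) fun j => f (mem_cent1.1 j.2)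
  exact (split K L (𝐂 E)).trans (Nat.mul_le_mul (show _ ≤ 8 by have := k x hx; omega) (show _ ≤ 2 by omega))

theorem four (m : x ∉ 𝐂 E) : ♯(E ⊓ 𝐂₁ x : Subgroup G) ≤ 4 := by
  obtain ⟨u, hu, f⟩ : ∃ u ∈ E, u * x ≠ x * u := by
    by_contra! j
    exact m j
  have := two_mul_card (inf_le_left : E ⊓ 𝐂₁ x ≤ _) hu fun j => f (mem_cent1.1 j.2)
  have := H.c
  omega

theorem idx (hx : x ∈ S) (q : x * x ∈ 𝐂 E) : (𝐂₁ x).relIndex E ≤ 2 := by
  have h1 := card_le_sq ⟨H.k.le H.n.le, H.ab, fun a ha => by rw [pow_two, H.e a ha]⟩ (H.n.norm hx) q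
  have h2 := card_inf_mul_relIndex (𝐂₁ x) E
  rw [inf_comm, H.c] at h1
  rw [H.c] at h2
  by_contra c
  have : ♯(𝐂₁ x ⊓ E : Subgroup G) ≤ 2 := by nlinarith
  nlinarith

/-- the self-centralising case -/
theorem self (l : S ⊓ 𝐂 E ≤ E) : SRk 16 S :=
  H.fin (H.ab.mono l) ((card_le l).trans (by rw [H.c]; decide)) fun L _ i => by
    obtain ⟨x, hx, m⟩ := SetLike.not_le_iff_exists.1 fun f : L ≤ 𝐂 E => by
      rw [relIndex_eq_one.2 f] at i
      omega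
    exact ⟨x, hx, (card_le (inf_le_inf_right _ l)).trans (H.four m)⟩

variable (hy : y ∈ YY S E) (cy : y ∈ 𝐂 E)
include hy cy

theorem lY : E ⊔ zpowers y ≤ YY S E := sup_le (le_YY H.n) (zpowers_le.2 hy)
theorem nY : E ⊔ zpowers y ⊴ S :=
  normal_of_comm le_sup_left ((H.lY hy cy).trans (YY_le H.n)) fun _ hx => ((mem_YY H.n).1 (H.lY hy cy hx)).2.2
theorem aY : Abel (E ⊔ zpowers y) := H.ab.sup (abel_zpowers y) (cent_comm.1 (zpowers_le.2 cy))
theorem cY : E ⊔ zpowers y ≤ S ⊓ 𝐂 E := sup_le H.l (zpowers_le.2 ⟨YY_le H.n hy, cy⟩)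
theorem mY : x ∈ E ⊔ zpowers y ↔ x ∈ E ∨ x * y⁻¹ ∈ E :=
  mem_sup_zpowers_iff (cent_le_norm E cy) ((mem_YY H.n).1 hy).2.1
theorem kY (m : y ∉ E) : ♯(E ⊔ zpowers y : Subgroup G) = 16 := by
  rw [card_sup_zpowers (cent_le_norm E cy) ((mem_YY H.n).1 hy).2.1 m, H.c]
theorem sqY (hx : x ∈ E ⊔ zpowers y) (m : x ∉ E) : x * x = y * y := by
  have h := ((H.mY hy cy).1 hx).resolve_left m
  rw [← sq_mul_cent cy H.e h, ← cy _ h, inv_mul_cancel_right]

end E8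
end CF.SR
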